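import Groth.Agent.H45.BddCompact.ExtColimCoprod
import Groth.Agent.H45.ExtColim.Site
import Groth.Agent.H45.QC.FreeOnHom
import Groth.Agent.H45.SheafTensor.ToSheaf
import Groth.Agent.H31.ModExt
import Groth.Agent.H31.PushHU
import Groth.Agent.Lead.Coh.H0
import Groth.Agent.S0941

/-!
# `Ext^p_O(j_{U!} O_U, -)` commutes with filtered colimits and direct sums

for `U` in a class `B` of objects of a ringed site with finite coverings by members of `B`
(module version of `Groth.Agent.H45.ExtColim.preservesColimit_ext_freeSheaf`).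

(helper45)
-/

set_option autoImplicit false
universe u
open CategoryTheory CategoryTheory.Limits Opposite Abelian

namespace Groth.Agent.H45.BddCompact

open Groth.Agent.H45.ExtColim
open Groth.Agent.H31 (freeOnHomEquiv freeOnHomEquiv_naturality)

variable {C : Type u} [SmallCategory C] {J : GrothendieckTopology C}
  (O : Sheaf J CommRingCat.{u})

lemma freeOnHomEquiv_zero (U : C) (M : ModSite.Mod O) :
    freeOnHomEquiv O U M 0 = 0 :=
  (Groth.Agent.H45.QC.freeOnHomAddEquiv O U M).map_zero

/-- from sections to morphisms out of `j_{U!} O_U` -/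
theorem homColim_freeOn {I : Type u} [SmallCategory I] {F : I ⥤ ModSite.Mod O} {c : Cocone F}
    {U : C}
    (h : SecColim ((SheafOfModules.toSheaf.{u} (ModSite.ringSh O)).mapCocone c) U) :
    HomColim (ModSite.freeOn O U) c where
  surj y := by
    obtain ⟨i, s, hs⟩ := h.surj (freeOnHomEquiv O U c.pt y)
    refine ⟨i, (freeOnHomEquiv O U (F.obj i)).symm s, ?_⟩
    apply (freeOnHomEquiv O U c.pt).injective
    rw [freeOnHomEquiv_naturality, Equiv.apply_symm_apply]
    exact hs
  inj i x hx := by
    have h1 : (c.ι.app i).val.app (op U) (freeOnHomEquiv O U (F.obj i) x) = 0 := by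
      rw [← freeOnHomEquiv_naturality, hx, freeOnHomEquiv_zero]
    obtain ⟨j, f, hf⟩ := h.inj i (freeOnHomEquiv O U (F.obj i) x) h1
    refine ⟨j, f, ?_⟩
    apply (freeOnHomEquiv O U (F.obj j)).injective
    rw [freeOnHomEquiv_naturality, freeOnHomEquiv_zero]
    exact hf

/-- `Hom(ℤ[h_U]^#, G) ≃+ G(U)`. -/
noncomputable def homAddEquivSections (U : C) (G : Sheaf J AddCommGrpCat.{u}) :
    (CohCx.freeSheaf J U ⟶ G) ≃+ G.obj.obj (op U) :=
  { Groth.Agent.Lead.Coh.homEquivSections U G with
    map_add' := Groth.Agent.Lead.Coh.homEquivSections_add U G }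

/-- `Hom_O(j_{U!} O_U, M) ≃+ Hom(ℤ[h_U]^#, M_ab)`. -/
noncomputable def freeOnCompare (U : C) (M : ModSite.Mod O) :
    (ModSite.freeOn O U ⟶ M) ≃+
      (CohCx.freeSheaf J U ⟶ (SheafOfModules.toSheaf.{u} (ModSite.ringSh O)).obj M) :=
  (Groth.Agent.H45.QC.freeOnHomAddEquiv O U M).trans
    (homAddEquivSections U ((SheafOfModules.toSheaf.{u} (ModSite.ringSh O)).obj M)).symm

lemma freeOnCompare_naturality (U : C) {M M' : ModSite.Mod O} (g : M ⟶ M')
    (x : ModSite.freeOn O U ⟶ M) :
    freeOnCompare O U M' (x ≫ g) =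
      freeOnCompare O U M x ≫ (SheafOfModules.toSheaf.{u} (ModSite.ringSh O)).map g := by
  apply (Groth.Agent.Lead.Coh.homEquivSections U _).injective
  rw [Groth.Agent.Lead.Coh.homEquivSections_naturality_right]
  change Groth.Agent.Lead.Coh.homEquivSections U _
      ((Groth.Agent.Lead.Coh.homEquivSections U _).symm (freeOnHomEquiv O U M' (x ≫ g))) =
    ((SheafOfModules.toSheaf.{u} (ModSite.ringSh O)).map g).hom.app (op U)
      (Groth.Agent.Lead.Coh.homEquivSections U _
        ((Groth.Agent.Lead.Coh.homEquivSections U _).symm (freeOnHomEquiv O U M x)))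
  rw [Equiv.apply_symm_apply, Equiv.apply_symm_apply, freeOnHomEquiv_naturality]
  rfl

section

variable [HasExt.{u} (ModSite.Mod O)]

/-- `Ext^n_O(j_{U!} O_U, M) ≃+ H^n(U, M_ab)`. -/
theorem nonempty_ext_freeOn_addEquiv (U : C) (M : ModSite.Mod O) (n : ℕ) :
    Nonempty (Ext (ModSite.freeOn O U) M n ≃+
      Ext (CohCx.freeSheaf J U) ((SheafOfModules.toSheaf.{u} (ModSite.ringSh O)).obj M) n) := by
  have := Groth.Agent.H31.ModExt.enoughInjectives (ModSite.ringSh O)
  exact Groth.Agent.H31.DeltaComp.nonempty_addEquiv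
    (SheafOfModules.toSheaf.{u} (ModSite.ringSh O)) (ModSite.freeOn O U) (CohCx.freeSheaf J U)
    (fun M => freeOnCompare O U M) (fun g x => freeOnCompare_naturality O U g x)
    (fun I hI n => Groth.Agent.H31.PushHU.acyclic_of_totallyAcyclic _
      (Groth.Agent.H31.ModAcyc.totallyAcyclic_of_injective (ModSite.ringSh O) I)
      (yoneda.obj U) n) n M

end

end Groth.Agent.H45.BddCompact
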