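import Groth.Agent.H45.BddCompact.FinFac
import Groth.Agent.H33.BrownGA.QCoprod
import Groth.Agent.H33.CoprodTriangle
import Mathlib.Algebra.Homology.DerivedCategory.TStructure

/-!
# Bounded-below compactness in the derived category of a Grothendieck abelian category

Let `Z` be an object of a Grothendieck abelian category `A` such that maps from `Z` (in degree `0`)
to coproducts of shifted single objects finitely factor (`BaseHyp`; this is what
"`Ext^p(Z, -)` commutes with direct sums" gives).  Then maps from `Z` to a coproduct of a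
uniformly bounded below family in `D(A)` finitely factor (`finFacAt_of_isGE`).

(helper45)
-/

set_option autoImplicit false

namespace Groth.Agent.H45.BddCompact

open CategoryTheory Limits DerivedCategory Pretriangulated

universe v u

variable {A : Type u} [Category.{v} A] [Abelian A] [IsGrothendieckAbelian.{v} A]
  [HasDerivedCategory.{v} A]

lemma hasCoproducts_derivedCategory : HasCoproducts.{v} (DerivedCategory A) := fun J => by
  have := Groth.Agent.H33.BrownGA.hasCoproductsOfShape_homotopyCategory (A := A) J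
  exact Groth.Agent.H33.LocCoprod.hasCoproductsOfShape
    (HomotopyCategory.subcategoryAcyclic A) DerivedCategory.Qh
    (fun C hC => Groth.Agent.H33.BrownGA.acyclic_coprod_closed C hC)

attribute [local instance] hasCoproducts_derivedCategory

/-- `D^{≥ n}` is closed under coproducts. -/
lemma isGE_of_isColimit {ι : Type v} (X : ι → DerivedCategory A) (n : ℤ)
    (hX : ∀ i, (X i).IsGE n) {P : DerivedCategory A} (inj : ∀ i, X i ⟶ P)
    (hc : IsColimit (Cofan.mk P inj)) : P.IsGE n := by
  have h := fun i => exists_iso_Q_obj_of_isGE (X i) n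
  choose K hK e using h
  have hQ := Groth.Agent.H33.BrownGA.isColimitQ K
  let f : P ≅ Q.obj (∐ K) := cofanPtIso inj hc _ hQ (fun i => (e i).some)
  have hz : (∐ K).IsStrictlyGE n := by
    rw [CochainComplex.isStrictlyGE_iff]
    intro i hi
    exact isZero_of_isColimit_cofan _ (Groth.Agent.H33.HoCoprod.isColimitEval K i)
      (fun j => CochainComplex.isZero_of_isStrictlyGE (K j) n i hi)
  exact TStructure.t.isGE_of_iso f.symm n

variable (K₀ : DerivedCategory A)

/-- **Dévissage along a truncation triangle.** -/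
lemma finFacAt_of_trunc (b b' : ℤ) (h : b + 1 = b') {ι : Type v} (X : ι → DerivedCategory A)
    {P : DerivedCategory A} (inj : ∀ i, X i ⟶ P) (hc : IsColimit (Cofan.mk P inj))
    (h₁ : FinFacAt K₀ (Sigma.ι (fun i => (TStructure.t.truncLE b).obj (X i)))
      (coproductIsCoproduct _))
    (h₃ : FinFacAt K₀ (Sigma.ι (fun i => (TStructure.t.truncGE b').obj (X i)))
      (coproductIsCoproduct _)) : FinFacAt K₀ inj hc := by
  let T : ι → Triangle (DerivedCategory A) :=
    fun i => (TStructure.t.triangleLEGE b b' h).obj (X i)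
  have hT : ∀ i, T i ∈ distTriang _ := fun i => TStructure.t.triangleLEGE_distinguished b b' h (X i)
  let X₁ : ι → DerivedCategory A := fun i => (TStructure.t.truncLE b).obj (X i)
  let X₃ : ι → DerivedCategory A := fun i => (TStructure.t.truncGE b').obj (X i)
  let α : ∐ X₁ ⟶ P := Sigma.desc (fun i => (T i).mor₁ ≫ inj i)
  let β : P ⟶ ∐ X₃ := Cofan.IsColimit.desc hc (fun i => (T i).mor₂ ≫ Sigma.ι X₃ i)
  let δ : ∐ X₃ ⟶ (∐ X₁)⟦(1 : ℤ)⟧ := Sigma.desc (fun i => (T i).mor₃ ≫ (Sigma.ι X₁ i)⟦(1 : ℤ)⟧')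
  have hα : ∀ i, Sigma.ι X₁ i ≫ α = (T i).mor₁ ≫ inj i := fun i => Sigma.ι_desc _ i
  have hβ : ∀ i, inj i ≫ β = (T i).mor₂ ≫ Sigma.ι X₃ i := fun i => Cofan.IsColimit.fac hc _ i
  have hδ : ∀ i, Sigma.ι X₃ i ≫ δ = (T i).mor₃ ≫ (Sigma.ι X₁ i)⟦(1 : ℤ)⟧' := fun i =>
    Sigma.ι_desc _ i
  have dist := Groth.Agent.H33.coproduct_distinguished T hT (Sigma.ι X₁) inj (Sigma.ι X₃)
    (coproductIsCoproduct X₁) hc (coproductIsCoproduct X₃) α β δ hα hβ hδ
  exact FinFacAt.middle inj hc (fun i => (T i).mor₁) (fun i => (T i).mor₂) α β hα hβ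
    (fun ψ hψ => by
      obtain ⟨γ, hγ⟩ := Triangle.coyoneda_exact₂ _ dist ψ hψ
      exact ⟨γ, hγ.symm⟩) h₁ h₃

variable (Z : A)

/-- The base hypothesis: maps from `Z` to coproducts of shifted single objects finitely factor. -/
def BaseHyp : Prop :=
  ∀ (p : ℕ) {ι : Type v} (F : ι → A) {P : DerivedCategory A}
    (inj : ∀ i, ((singleFunctor A 0).obj (F i))⟦(p : ℤ)⟧ ⟶ P) (hc : IsColimit (Cofan.mk P inj)),
    FinFacAt ((singleFunctor A 0).obj Z) inj hc

variable {Z}

lemma finFacAt_of_isGE_pos (a : ℤ) (ha : 0 < a) {ι : Type v} (X : ι → DerivedCategory A)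
    (hGE : ∀ i, (X i).IsGE a) {P : DerivedCategory A} (inj : ∀ i, X i ⟶ P)
    (hc : IsColimit (Cofan.mk P inj)) : FinFacAt ((singleFunctor A 0).obj Z) inj hc := by
  apply finFacAt_of_forall_eq_zero
  intro φ
  have : P.IsGE a := isGE_of_isColimit X a hGE inj hc
  exact TStructure.t.zero_of_isLE_of_isGE φ 0 a ha inferInstance this

lemma finFacAt_of_isGE_isLE (hZ : BaseHyp Z) (a : ℤ) {ι : Type v} (X : ι → DerivedCategory A)
    (hGE : ∀ i, (X i).IsGE a) (hLE : ∀ i, (X i).IsLE a) {P : DerivedCategory A}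
    (inj : ∀ i, X i ⟶ P) (hc : IsColimit (Cofan.mk P inj)) :
    FinFacAt ((singleFunctor A 0).obj Z) inj hc := by
  by_cases ha : 0 < a
  · exact finFacAt_of_isGE_pos a ha X hGE inj hc
  · obtain ⟨p, hp⟩ : ∃ p : ℕ, (p : ℤ) + a = 0 := ⟨(-a).toNat, by omega⟩
    have h := fun i => exists_iso_singleFunctor_obj_of_isGE_of_isLE (X i) a
    choose F e using h
    let e' : ∀ i, ((singleFunctor A 0).obj (F i))⟦(p : ℤ)⟧ ≅ X i := fun i =>
      ((singleFunctors A).shiftIso (p : ℤ) a 0 hp).app (F i) ≪≫ (e i).some.symm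
    exact (hZ p F (Sigma.ι _) (coproductIsCoproduct _)).of_iso inj hc e'

theorem finFacAt_of_bounded (hZ : BaseHyp Z) (n : ℕ) :
    ∀ (a : ℤ) {ι : Type v} (X : ι → DerivedCategory A), (∀ i, (X i).IsGE a) →
      (∀ i, (X i).IsLE (a + n)) → ∀ {P : DerivedCategory A} (inj : ∀ i, X i ⟶ P)
      (hc : IsColimit (Cofan.mk P inj)), FinFacAt ((singleFunctor A 0).obj Z) inj hc := by
  induction n with
  | zero =>
    intro a ι X hGE hLE P inj hc
    exact finFacAt_of_isGE_isLE hZ a X hGE (fun i => by simpa using hLE i) inj hc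
  | succ n ih =>
    intro a ι X hGE hLE P inj hc
    refine finFacAt_of_trunc _ a (a + 1) rfl X inj hc ?_ ?_
    · exact finFacAt_of_isGE_isLE hZ a _ (fun i => inferInstance) (fun i => inferInstance) _ _
    · refine ih (a + 1) _ (fun i => inferInstance) (fun i => ?_) _ _
      have : (X i).IsLE (a + 1 + n) := by
        have := hLE i
        rw [show a + ((n + 1 : ℕ) : ℤ) = a + 1 + n by push_cast; ring] at this
        exact this
      infer_instance

/-- **Main theorem**: maps from `Z` (in degree `0`) to the coproduct of a uniformly bounded below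
family finitely factor. -/
theorem finFacAt_of_isGE (hZ : BaseHyp Z) (a : ℤ) {ι : Type v} (X : ι → DerivedCategory A)
    (hX : ∀ i, (X i).IsGE a) {P : DerivedCategory A} (inj : ∀ i, X i ⟶ P)
    (hc : IsColimit (Cofan.mk P inj)) : FinFacAt ((singleFunctor A 0).obj Z) inj hc := by
  obtain ⟨n, hn⟩ : ∃ n : ℕ, min a 0 + (n : ℤ) = 0 := ⟨(-(min a 0)).toNat, by omega⟩
  have hX' : ∀ i, (X i).IsGE (min a 0) := fun i =>
    TStructure.t.isGE_of_ge (X i) (min a 0) a (min_le_left _ _)
  refine finFacAt_of_trunc _ 0 1 (by norm_num) X inj hc ?_ ?_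
  · refine finFacAt_of_bounded hZ n (min a 0) _ (fun i => inferInstance) (fun i => ?_) _ _
    rw [hn]
    infer_instance
  · exact finFacAt_of_isGE_pos 1 (by norm_num) _ (fun i => inferInstance) _ _

/-- the same, as bijectivity of `CohDer.homSumToHomCoprod` -/
theorem bijective_homSumToHomCoprod_of_isGE (hZ : BaseHyp Z) (a : ℤ) {ι : Type v}
    (X : ι → DerivedCategory A) [HasCoproduct X] (hX : ∀ i, (X i).IsGE a) :
    Function.Bijective (CohDer.homSumToHomCoprod ((singleFunctor A 0).obj Z) X) :=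
  bijective_of_finFacAt _ X (finFacAt_of_isGE hZ a X hX _ _)

end Groth.Agent.H45.BddCompact
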