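import Groth.Agent.H45.BddCompact.ExtHyp
import Groth.Agent.H45.ExtColim.Main
import Mathlib.CategoryTheory.Limits.Constructions.Filtered

/-!
# From filtered colimits to coproducts for `Ext^p(Z, -)`

If `Ext^p(Z, -)` commutes with filtered colimits (elementwise form `ExtColim`), then every class
in `Ext^p(Z, ∐ F)` is a finite sum of classes coming from the summands (`ExtHyp`).

(helper45)
-/

set_option autoImplicit false

namespace Groth.Agent.H45.BddCompact

open CategoryTheory Limits Abelian Groth.Agent.H45.ExtColim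

universe w' v u

variable {A : Type u} [Category.{v} A] [Abelian A] [HasExt.{w'} A]

/-- surjectivity part of `ExtColim` for an arbitrary colimit cocone -/
lemma extColim_surj_of_isColimit {Z : A} {n : ℕ} {I : Type v} [SmallCategory I] {D : I ⥤ A}
    [HasColimit D] (h : ExtColim Z n (colimit.cocone D)) {c : Cocone D} (hc : IsColimit c)
    (y : Ext Z c.pt n) :
    ∃ (i : I) (x : Ext Z (D.obj i) n), x.comp (Ext.mk₀ (c.ι.app i)) (add_zero n) = y := by
  let e : colimit D ≅ c.pt := (colimit.isColimit D).coconePointUniqueUpToIso hc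
  obtain ⟨i, x, hx⟩ := h.surj (y.comp (Ext.mk₀ e.inv) (add_zero n))
  refine ⟨i, x, ?_⟩
  have h1 : colimit.ι D i ≫ e.hom = c.ι.app i :=
    IsColimit.comp_coconePointUniqueUpToIso_hom (colimit.isColimit D) hc i
  have hx' : x.comp (Ext.mk₀ (colimit.ι D i)) (add_zero n) =
      y.comp (Ext.mk₀ e.inv) (add_zero n) := hx
  rw [← h1, ← Ext.mk₀_comp_mk₀, ← Ext.comp_assoc_of_third_deg_zero, hx',
    Ext.comp_assoc_of_third_deg_zero, Ext.mk₀_comp_mk₀, e.inv_hom_id, Ext.comp_mk₀_id]

lemma mk₀_finset_sum {X Y : A} {ι : Type*} (S : Finset ι) (f : ι → (X ⟶ Y)) :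
    Ext.mk₀ (∑ i ∈ S, f i) = ∑ i ∈ S, Ext.mk₀ (f i) := by
  classical
  induction S using Finset.induction_on with
  | empty => simp
  | insert a s ha ih => rw [Finset.sum_insert ha, Finset.sum_insert ha, Ext.mk₀_add, ih]

lemma comp_finset_sum {X Y Z : A} {p q n : ℕ} (α : Ext X Y p) {ι : Type*} (S : Finset ι)
    (β : ι → Ext Y Z q) (h : p + q = n) :
    α.comp (∑ i ∈ S, β i) h = ∑ i ∈ S, α.comp (β i) h := by
  classical
  induction S using Finset.induction_on with
  | empty => simp
  | insert a s ha ih => rw [Finset.sum_insert ha, Finset.sum_insert ha, Ext.comp_add, ih]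

variable [IsGrothendieckAbelian.{v} A]

theorem extHyp_of_extColim {Z : A}
    (h : ∀ (p : ℕ) {I : Type v} [SmallCategory I] [IsFiltered I] (D : I ⥤ A),
      ExtColim Z p (colimit.cocone D)) : ExtHyp.{w'} Z := by
  classical
  intro p ι F x
  let D := CoproductsFromFiniteFiltered.liftToFinsetObj (Discrete.functor F)
  let cF := CoproductsFromFiniteFiltered.finiteSubcoproductsCocone F
  have hcF : IsColimit cF := CoproductsFromFiniteFiltered.isColimitFiniteSubproductsCocone F
  obtain ⟨S, y, hy⟩ := extColim_surj_of_isColimit (h p D) hcF x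
  let ιS : (∐ fun x : S => (Discrete.functor F).obj x) ⟶ ∐ F := cF.ι.app S
  have hy' : Ext.comp (Y := ∐ fun x : S => (Discrete.functor F).obj x) y (Ext.mk₀ ιS)
      (add_zero p) = x := hy
  let S' : Finset ι := S.image (fun d => d.as)
  have hfix : ιS ≫ cofanE (Sigma.ι F) (coproductIsCoproduct F) S' = ιS := by
    apply Sigma.hom_ext
    intro s
    have h1 : Sigma.ι (fun x : S => (Discrete.functor F).obj x) s ≫ ιS =
        Sigma.ι F s.1.as := by
      simp [ιS, cF]
    rw [← Category.assoc, h1, inj_cofanE_of_mem]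
    exact Finset.mem_image_of_mem _ s.2
  refine ⟨S', fun i => x.comp
    (Ext.mk₀ (cofanπ (Sigma.ι F) (coproductIsCoproduct F) i)) (add_zero p), ?_⟩
  have hx : x = x.comp (Ext.mk₀ (cofanE (Sigma.ι F) (coproductIsCoproduct F) S'))
      (add_zero p) := by
    rw [← hy', Ext.comp_assoc_of_third_deg_zero, Ext.mk₀_comp_mk₀, hfix]
  conv_lhs => rw [hx]
  unfold cofanE
  rw [mk₀_finset_sum, comp_finset_sum]
  apply Finset.sum_congr rfl
  intro i _
  rw [Ext.comp_assoc_of_third_deg_zero, Ext.mk₀_comp_mk₀]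

end Groth.Agent.H45.BddCompact
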