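import Groth.Agent.H45.BddCompact.Derived
import Mathlib.Algebra.Homology.DerivedCategory.Ext.Basic
import Mathlib.Algebra.Homology.DerivedCategory.Ext.ExtClass

/-!
# The base hypothesis from `Ext`

If every class in `Ext^p(Z, ∐ F)` is a finite sum of classes coming from the summands, then `Z`
satisfies `BaseHyp`, hence `Hom(Z, -)` commutes with coproducts of uniformly bounded below
families in the derived category.

(helper45)
-/

set_option autoImplicit false

namespace Groth.Agent.H45.BddCompact

open CategoryTheory Limits DerivedCategory Abelian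

universe w' v u

variable {A : Type u} [Category.{v} A] [Abelian A] [IsGrothendieckAbelian.{v} A]
  [HasDerivedCategory.{v} A]

/-- The single functor `A ⥤ D(A)` preserves coproducts. -/
noncomputable def isColimitSingle {ι : Type v} (F : ι → A) :
    IsColimit (Cofan.mk ((singleFunctor A 0).obj (∐ F))
      (fun i => (singleFunctor A 0).map (Sigma.ι F i))) := by
  let S : A ⥤ CochainComplex A ℤ := CochainComplex.singleFunctor A 0
  have hS : PreservesColimit (Discrete.functor F) S := by
    change PreservesColimit (Discrete.functor F) (HomologicalComplex.single A (ComplexShape.up ℤ) 0)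
    infer_instance
  let K : ι → CochainComplex A ℤ := fun i => S.obj (F i)
  have h1 : PreservesColimit (Discrete.functor K) (DerivedCategory.Q (C := A)) :=
    preservesColimit_of_preserves_colimit_cocone (coproductIsCoproduct K)
      ((isColimitMapCoconeCofanMkEquiv _ _ _).symm (Groth.Agent.H33.BrownGA.isColimitQ K))
  have h2 : PreservesColimit (Discrete.functor F ⋙ S) (DerivedCategory.Q (C := A)) :=
    preservesColimit_of_iso_diagram _ (Discrete.natIso (fun _ => Iso.refl _) :
      Discrete.functor K ≅ Discrete.functor F ⋙ S)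
  have h3 : PreservesColimit (Discrete.functor F) (S ⋙ DerivedCategory.Q) := inferInstance
  have h4 : PreservesColimit (Discrete.functor F) (singleFunctor A 0) :=
    preservesColimit_of_natIso _ (singleFunctorIsoCompQ A 0).symm
  exact isColimitCofanMkObjOfIsColimit (singleFunctor A 0) _ _ (coproductIsCoproduct F)

variable [HasExt.{w'} A]

/-- every class in `Ext^p(Z, ∐ F)` is a finite sum of classes coming from the summands -/
def ExtHyp (Z : A) : Prop :=
  ∀ (p : ℕ) {ι : Type v} (F : ι → A) (x : Ext.{w'} Z (∐ F) p),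
    ∃ (S : Finset ι) (y : ∀ i, Ext.{w'} Z (F i) p),
      x = ∑ i ∈ S, (y i).comp (Ext.mk₀ (Sigma.ι F i)) (add_zero p)

theorem baseHyp_of_extHyp {Z : A} (h : ExtHyp.{w'} Z) : BaseHyp Z := by
  intro p ι F P inj hc
  have hS := isColimitSingle F
  have hS' : IsColimit (Cofan.mk (((singleFunctor A 0).obj (∐ F))⟦(p : ℤ)⟧)
      (fun i => ((singleFunctor A 0).map (Sigma.ι F i))⟦(p : ℤ)⟧')) :=
    isColimitCofanMkObjOfIsColimit (shiftFunctor (DerivedCategory A) (p : ℤ)) _ _ hS
  refine FinFacAt.of_iso (?_ : FinFacAt _ _ hS') inj hc (fun i => Iso.refl _)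
  apply finFacAt_of_exists_sum
  intro φ
  obtain ⟨S, y, hy⟩ := h p F (Ext.homEquiv.symm φ)
  refine ⟨S, fun i => (y i).hom, ?_⟩
  have e1 : φ = Ext.homAddEquiv (∑ i ∈ S, (y i).comp (Ext.mk₀ (Sigma.ι F i)) (add_zero p)) := by
    rw [← hy]
    exact (Equiv.apply_symm_apply Ext.homEquiv φ).symm
  rw [map_sum] at e1
  rw [e1]
  apply Finset.sum_congr rfl
  intro i _
  rw [Ext.homAddEquiv_apply, Ext.comp_hom, Ext.mk₀_hom, ShiftedHom.comp_mk₀]

/-- **Main theorem (Ext form)**. -/
theorem bijective_homSumToHomCoprod_of_extHyp {Z : A} (h : ExtHyp.{w'} Z) (a : ℤ) {ι : Type v}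
    (X : ι → DerivedCategory A) [HasCoproduct X] (hX : ∀ i, (X i).IsGE a) :
    Function.Bijective (CohDer.homSumToHomCoprod ((singleFunctor A 0).obj Z) X) :=
  bijective_homSumToHomCoprod_of_isGE (baseHyp_of_extHyp h) a X hX

end Groth.Agent.H45.BddCompact
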