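import Groth.Agent.H45.BddCompact.ExtHyp
import Mathlib.Algebra.Category.Grp.Colimits
import Mathlib.Algebra.DirectSum.Basic

/-!
# `ExtHyp` from preservation of coproducts by `Ext^p(Z, -)`

(helper45)
-/

set_option autoImplicit false

namespace Groth.Agent.H45.BddCompact

open CategoryTheory Limits DerivedCategory Abelian

universe v u

open Classical in
/-- Elements of a coproduct of abelian groups are finite sums of elements of the summands. -/
lemma exists_finset_sum_of_isColimit' {ι : Type v} {K : Discrete ι ⥤ AddCommGrpCat.{v}}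
    (c : Cocone K) (hc : IsColimit c) (σ : c.pt) :
    ∃ (T : Finset ι) (y : ∀ i, K.obj ⟨i⟩), σ = ∑ i ∈ T, (c.ι.app ⟨i⟩).hom (y i) := by
  let A : ι → Type v := fun i => (K.obj ⟨i⟩ : Type v)
  let r : c.pt ⟶ AddCommGrpCat.of (DirectSum ι A) :=
    hc.desc ⟨AddCommGrpCat.of (DirectSum ι A),
      Discrete.natTrans (fun i => AddCommGrpCat.ofHom (DirectSum.of A i.as))⟩
  let leg : ∀ i, A i →+ c.pt := fun i => (c.ι.app ⟨i⟩).hom
  let w : AddCommGrpCat.of (DirectSum ι A) ⟶ c.pt :=
    AddCommGrpCat.ofHom (DirectSum.toAddMonoid leg)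
  have hw : ∀ i (a : A i), w.hom (DirectSum.of A i a) = leg i a :=
    fun i a => DirectSum.toAddMonoid_of leg i a
  have hrw : r ≫ w = 𝟙 _ := by
    apply hc.hom_ext
    rintro ⟨i⟩
    rw [hc.fac_assoc, Category.comp_id]
    ext a
    exact hw i a
  have e : w.hom (r.hom σ) = σ := ConcreteCategory.congr_hom hrw σ
  let x : DirectSum ι A := r.hom σ
  refine ⟨DFinsupp.support x, fun i => x i, ?_⟩
  have hx : x = ∑ i ∈ DFinsupp.support x, DirectSum.of A i (x i) :=
    (DirectSum.sum_support_of x).symm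
  have h1 : w.hom x = ∑ i ∈ DFinsupp.support x, leg i (x i) := by
    conv_lhs => rw [hx]
    rw [map_sum]
    exact Finset.sum_congr rfl (fun i _ => hw i (x i))
  rw [← e]
  exact h1

variable {A : Type u} [Category.{v} A] [Abelian A] [IsGrothendieckAbelian.{v} A]
  [HasDerivedCategory.{v} A] [HasExt.{v} A]

theorem extHyp_of_preserves {Z : A}
    (h : ∀ (p : ℕ) (ι : Type v), PreservesColimitsOfShape (Discrete ι) (extFunctorObj Z p)) :
    ExtHyp.{v} Z := by
  intro p ι F x
  haveI := h p ι
  have hc : IsColimit ((extFunctorObj Z p).mapCocone (colimit.cocone (Discrete.functor F))) :=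
    isColimitOfPreserves _ (colimit.isColimit _)
  obtain ⟨S, y, hy⟩ := exists_finset_sum_of_isColimit' _ hc x
  exact ⟨S, y, hy⟩

end Groth.Agent.H45.BddCompact
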