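import Groth.Agent.H82.Compact
import Mathlib.CategoryTheory.Limits.Shapes.Products
import Mathlib.CategoryTheory.Preadditive.Basic
import Mathlib.Algebra.BigOperators.Group.Finset.Basic

/-!
# Finite factorisation of maps into a coproduct, relative to one family

For a family `X : ι → D` in a preadditive category, with a colimit cofan `(P, inj)`, and a finite
set `F` of indices we have the idempotent `cofanE F : P ⟶ P` (projection onto the `F`-summands).
`FinFacAt K inj hc` says that every `φ : K ⟶ P` is fixed by some `cofanE F`, i.e. is a finite sum of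
maps into the summands.  We prove a dévissage lemma (`FinFacAt.middle`) and that `FinFacAt` gives
bijectivity of `CohDer.homSumToHomCoprod`.

(helper45)
-/

set_option autoImplicit false

namespace Groth.Agent.H45.BddCompact

open CategoryTheory Limits

universe w v u

variable {D : Type u} [Category.{v} D] [Preadditive D]

section

variable {ι : Type w} {X : ι → D} {P : D} (inj : ∀ i, X i ⟶ P) (hc : IsColimit (Cofan.mk P inj))

open Classical in
/-- the projection of a coproduct onto a summand -/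
noncomputable def cofanπ (i : ι) : P ⟶ X i :=
  Cofan.IsColimit.desc hc (fun k => if h : k = i then eqToHom (congrArg X h) else 0)

lemma inj_cofanπ_self (i : ι) : inj i ≫ cofanπ inj hc i = 𝟙 _ := by
  classical
  have := Cofan.IsColimit.fac hc
    (fun k => if h : k = i then eqToHom (congrArg X h) else (0 : X k ⟶ X i)) i
  simpa [cofanπ] using this

lemma inj_cofanπ_ne {k i : ι} (h : k ≠ i) : inj k ≫ cofanπ inj hc i = 0 := by
  classical
  have := Cofan.IsColimit.fac hc
    (fun k => if h : k = i then eqToHom (congrArg X h) else (0 : X k ⟶ X i)) k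
  simpa [cofanπ, h] using this

/-- the idempotent endomorphism of the coproduct projecting to the summands in `F` -/
noncomputable def cofanE (F : Finset ι) : P ⟶ P :=
  ∑ i ∈ F, cofanπ inj hc i ≫ inj i

open Classical in
lemma inj_cofanE (k : ι) (F : Finset ι) :
    inj k ≫ cofanE inj hc F = if k ∈ F then inj k else 0 := by
  unfold cofanE
  rw [Preadditive.comp_sum]
  split_ifs with hk
  · rw [Finset.sum_eq_single k]
    · rw [← Category.assoc, inj_cofanπ_self, Category.id_comp]
    · intro i _ hik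
      rw [← Category.assoc, inj_cofanπ_ne inj hc (Ne.symm hik), zero_comp]
    · intro h; exact absurd hk h
  · apply Finset.sum_eq_zero
    intro i hi
    have : k ≠ i := fun h => hk (h ▸ hi)
    rw [← Category.assoc, inj_cofanπ_ne inj hc this, zero_comp]

lemma inj_cofanE_of_mem {k : ι} {F : Finset ι} (hk : k ∈ F) :
    inj k ≫ cofanE inj hc F = inj k := by
  classical
  rw [inj_cofanE, if_pos hk]

lemma inj_cofanE_of_not_mem {k : ι} {F : Finset ι} (hk : k ∉ F) :
    inj k ≫ cofanE inj hc F = 0 := by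
  classical
  rw [inj_cofanE, if_neg hk]

lemma cofanE_comp_eq_zero {F : Finset ι} {Y : D} (g : P ⟶ Y) (hg : ∀ i ∈ F, inj i ≫ g = 0) :
    cofanE inj hc F ≫ g = 0 := by
  unfold cofanE
  rw [Preadditive.sum_comp]
  apply Finset.sum_eq_zero
  intro i hi
  rw [Category.assoc, hg i hi, comp_zero]

lemma cofanE_mono {F G : Finset ι} (h : F ⊆ G) :
    cofanE inj hc F ≫ cofanE inj hc G = cofanE inj hc F := by
  apply Cofan.IsColimit.hom_ext hc
  intro k
  change inj k ≫ _ ≫ _ = inj k ≫ _
  by_cases hk : k ∈ F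
  · rw [← Category.assoc, inj_cofanE_of_mem inj hc hk, inj_cofanE_of_mem inj hc (h hk)]
  · rw [← Category.assoc, inj_cofanE_of_not_mem inj hc hk, zero_comp]

/-- a finite sum of maps into summands is fixed by `cofanE` -/
lemma sum_comp_cofanE {K : D} (S : Finset ι) (ψ : ∀ i, K ⟶ X i) :
    (∑ i ∈ S, ψ i ≫ inj i) ≫ cofanE inj hc S = ∑ i ∈ S, ψ i ≫ inj i := by
  rw [Preadditive.sum_comp]
  apply Finset.sum_congr rfl
  intro i hi
  rw [Category.assoc, inj_cofanE_of_mem inj hc hi]

end

section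

variable {ι : Type w} {X Y : ι → D} {P Q : D}
  (injX : ∀ i, X i ⟶ P) (hX : IsColimit (Cofan.mk P injX))
  (injY : ∀ i, Y i ⟶ Q) (hY : IsColimit (Cofan.mk Q injY))

lemma cofanE_natural (f : ∀ i, X i ⟶ Y i) (φ : P ⟶ Q) (hφ : ∀ i, injX i ≫ φ = f i ≫ injY i)
    (F : Finset ι) : cofanE injX hX F ≫ φ = φ ≫ cofanE injY hY F := by
  apply Cofan.IsColimit.hom_ext hX
  intro k
  change injX k ≫ _ ≫ _ = injX k ≫ _ ≫ _
  by_cases hk : k ∈ F
  · rw [← Category.assoc, inj_cofanE_of_mem injX hX hk, ← Category.assoc, hφ, Category.assoc,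
      inj_cofanE_of_mem injY hY hk]
  · rw [← Category.assoc, inj_cofanE_of_not_mem injX hX hk, zero_comp, ← Category.assoc, hφ,
      Category.assoc, inj_cofanE_of_not_mem injY hY hk, comp_zero]

end

/-- isomorphic families have isomorphic coproducts -/
@[simps]
noncomputable def cofanPtIso {C : Type u} [Category.{v} C] {ι : Type w} {X Y : ι → C} {P Q : C}
    (injX : ∀ i, X i ⟶ P) (hX : IsColimit (Cofan.mk P injX))
    (injY : ∀ i, Y i ⟶ Q) (hY : IsColimit (Cofan.mk Q injY)) (e : ∀ i, X i ≅ Y i) : P ≅ Q where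
  hom := Cofan.IsColimit.desc hX (fun i => (e i).hom ≫ injY i)
  inv := Cofan.IsColimit.desc hY (fun i => (e i).inv ≫ injX i)
  hom_inv_id := by
    apply Cofan.IsColimit.hom_ext hX
    intro i
    change injX i ≫ _ ≫ _ = injX i ≫ 𝟙 _
    rw [← Category.assoc]
    erw [Cofan.IsColimit.fac hX]
    rw [Category.assoc]
    erw [Cofan.IsColimit.fac hY]
    rw [Iso.hom_inv_id_assoc, Category.comp_id]
  inv_hom_id := by
    apply Cofan.IsColimit.hom_ext hY
    intro i
    change injY i ≫ _ ≫ _ = injY i ≫ 𝟙 _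
    rw [← Category.assoc]
    erw [Cofan.IsColimit.fac hY]
    rw [Category.assoc]
    erw [Cofan.IsColimit.fac hX]
    rw [Iso.inv_hom_id_assoc, Category.comp_id]

lemma isZero_of_isColimit_cofan {C : Type u} [Category.{v} C] [HasZeroMorphisms C] {ι : Type w}
    {X : ι → C} {P : C} (inj : ∀ i, X i ⟶ P) (hc : IsColimit (Cofan.mk P inj))
    (h : ∀ i, IsZero (X i)) : IsZero P := by
  rw [IsZero.iff_id_eq_zero]
  apply Cofan.IsColimit.hom_ext hc
  intro i
  exact (h i).eq_of_src _ _

/-- every map from `K` to the coproduct is a finite sum of maps into the summands -/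
def FinFacAt (K : D) {ι : Type w} {X : ι → D} {P : D} (inj : ∀ i, X i ⟶ P)
    (hc : IsColimit (Cofan.mk P inj)) : Prop :=
  ∀ φ : K ⟶ P, ∃ F : Finset ι, φ ≫ cofanE inj hc F = φ

lemma finFacAt_of_forall_eq_zero (K : D) {ι : Type w} {X : ι → D} {P : D} (inj : ∀ i, X i ⟶ P)
    (hc : IsColimit (Cofan.mk P inj)) (h : ∀ φ : K ⟶ P, φ = 0) : FinFacAt K inj hc := by
  intro φ
  refine ⟨∅, ?_⟩
  rw [h φ, zero_comp]

lemma finFacAt_of_exists_sum (K : D) {ι : Type w} {X : ι → D} {P : D} (inj : ∀ i, X i ⟶ P)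
    (hc : IsColimit (Cofan.mk P inj))
    (h : ∀ φ : K ⟶ P, ∃ (S : Finset ι) (ψ : ∀ i, K ⟶ X i), φ = ∑ i ∈ S, ψ i ≫ inj i) :
    FinFacAt K inj hc := by
  intro φ
  obtain ⟨S, ψ, rfl⟩ := h φ
  exact ⟨S, sum_comp_cofanE inj hc S ψ⟩

/-- `FinFacAt` does not depend on the chosen coproduct and is invariant under isomorphisms of
the family. -/
theorem FinFacAt.of_iso {K : D} {ι : Type w} {X Y : ι → D} {P Q : D}
    {injX : ∀ i, X i ⟶ P} {hX : IsColimit (Cofan.mk P injX)}
    (h : FinFacAt K injX hX)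
    (injY : ∀ i, Y i ⟶ Q) (hY : IsColimit (Cofan.mk Q injY)) (e : ∀ i, X i ≅ Y i) :
    FinFacAt K injY hY := by
  let f : P ⟶ Q := Cofan.IsColimit.desc hX (fun i => (e i).hom ≫ injY i)
  let g : Q ⟶ P := Cofan.IsColimit.desc hY (fun i => (e i).inv ≫ injX i)
  have hf : ∀ i, injX i ≫ f = (e i).hom ≫ injY i := fun i => Cofan.IsColimit.fac hX _ i
  have hg : ∀ i, injY i ≫ g = (e i).inv ≫ injX i := fun i => Cofan.IsColimit.fac hY _ i
  have hgf : g ≫ f = 𝟙 Q := by
    apply Cofan.IsColimit.hom_ext hY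
    intro i
    change injY i ≫ g ≫ f = injY i ≫ 𝟙 _
    rw [← Category.assoc, hg, Category.assoc, hf, Iso.inv_hom_id_assoc, Category.comp_id]
  intro φ
  obtain ⟨F, hF⟩ := h (φ ≫ g)
  refine ⟨F, ?_⟩
  calc φ ≫ cofanE injY hY F = (φ ≫ g) ≫ f ≫ cofanE injY hY F := by
        rw [Category.assoc, ← Category.assoc g, hgf, Category.id_comp]
    _ = ((φ ≫ g) ≫ cofanE injX hX F) ≫ f := by
        rw [Category.assoc (φ ≫ g), cofanE_natural injX hX injY hY (fun i => (e i).hom) f hf]
    _ = φ := by rw [hF, Category.assoc, hgf, Category.comp_id]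

/-- **Dévissage**: if `K` finitely factors into the coproducts of the outer families of a
sequence of families whose coproduct sequence is exact at the middle after `Hom(K, -)`, then
`K` finitely factors into the coproduct of the middle family. -/
theorem FinFacAt.middle {K : D} {ι : Type w} {X Y W : ι → D} {P Q R : D}
    {injX : ∀ i, X i ⟶ P} {hX : IsColimit (Cofan.mk P injX)}
    (injY : ∀ i, Y i ⟶ Q) (hY : IsColimit (Cofan.mk Q injY))
    {injW : ∀ i, W i ⟶ R} {hW : IsColimit (Cofan.mk R injW)}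
    (a : ∀ i, X i ⟶ Y i) (b : ∀ i, Y i ⟶ W i) (α : P ⟶ Q) (β : Q ⟶ R)
    (hα : ∀ i, injX i ≫ α = a i ≫ injY i) (hβ : ∀ i, injY i ≫ β = b i ≫ injW i)
    (hex : ∀ ψ : K ⟶ Q, ψ ≫ β = 0 → ∃ γ : K ⟶ P, γ ≫ α = ψ)
    (h₁ : FinFacAt K injX hX) (h₃ : FinFacAt K injW hW) : FinFacAt K injY hY := by
  classical
  intro φ
  obtain ⟨F, hF⟩ := h₃ (φ ≫ β)
  have h0 : (φ - φ ≫ cofanE injY hY F) ≫ β = 0 := by
    rw [Preadditive.sub_comp, Category.assoc, cofanE_natural injY hY injW hW b β hβ,
      ← Category.assoc, hF, sub_self]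
  obtain ⟨γ, hγ⟩ := hex _ h0
  obtain ⟨G, hG⟩ := h₁ γ
  refine ⟨F ∪ G, ?_⟩
  have h1 : (φ ≫ cofanE injY hY F) ≫ cofanE injY hY (F ∪ G) = φ ≫ cofanE injY hY F := by
    rw [Category.assoc, cofanE_mono injY hY Finset.subset_union_left]
  have h2 : (φ - φ ≫ cofanE injY hY F) ≫ cofanE injY hY (F ∪ G) =
      φ - φ ≫ cofanE injY hY F := by
    rw [← hγ, Category.assoc, ← cofanE_natural injX hX injY hY a α hα, ← Category.assoc]
    congr 1
    rw [← hG, Category.assoc, cofanE_mono injX hX Finset.subset_union_right]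
  have h3 : φ = φ ≫ cofanE injY hY F + (φ - φ ≫ cofanE injY hY F) := by abel
  calc φ ≫ cofanE injY hY (F ∪ G)
      = (φ ≫ cofanE injY hY F + (φ - φ ≫ cofanE injY hY F)) ≫ cofanE injY hY (F ∪ G) := by
        rw [← h3]
    _ = φ ≫ cofanE injY hY F + (φ - φ ≫ cofanE injY hY F) := by
        rw [Preadditive.add_comp, h1, h2]
    _ = φ := h3.symm

/-- `FinFacAt` for the chosen coproduct gives bijectivity of the canonical map
`⊕ Hom(K, X i) → Hom(K, ∐ X)`. -/
theorem bijective_of_finFacAt {D : Type u} [Category.{v} D] [Preadditive D] (K : D) {ι : Type v}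
    (X : ι → D) [HasCoproduct X]
    (h : FinFacAt K (Sigma.ι X) (coproductIsCoproduct X)) :
    Function.Bijective (CohDer.homSumToHomCoprod K X) := by
  classical
  constructor
  · rw [injective_iff_map_eq_zero]
    intro x hx
    ext j
    rw [← Groth.Agent.H82.homSum_comp_sigmaπ, hx, zero_comp]
    rfl
  · intro φ
    obtain ⟨F, hF⟩ := h φ
    refine ⟨∑ i ∈ F, DirectSum.of _ i (φ ≫ cofanπ (Sigma.ι X) (coproductIsCoproduct X) i), ?_⟩
    rw [map_sum]
    conv_rhs => rw [← hF]
    unfold cofanE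
    rw [Preadditive.comp_sum]
    refine Finset.sum_congr rfl (fun i _ => ?_)
    rw [Groth.Agent.H82.homSum_of, Category.assoc]

end Groth.Agent.H45.BddCompact
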