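import Groth.Agent.H45.BddCompact.Vanish
import Groth.Agent.H45.BddCompact.ExtPreserves

/-!
# Full compactness for objects of finite cohomological dimension

Let `Z` be an object of a Grothendieck abelian category `A` with `Ext^{d+1}(Z, -) = 0` and such that
every `Ext^p(Z, -)` commutes with coproducts (`ExtHyp Z`).  Then `Z[0]` is a compact object of `D(A)`
(`finFacAt_of_finite_cd`, `bijective_homSumToHomCoprod_of_finite_cd`).

(helper45)
-/

set_option autoImplicit false

namespace Groth.Agent.H45.BddCompact

open CategoryTheory Limits DerivedCategory Abelian Pretriangulated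

universe w' v u

variable {A : Type u} [Category.{v} A] [Abelian A] [IsGrothendieckAbelian.{v} A]
  [HasDerivedCategory.{v} A]

attribute [local instance] hasCoproducts_derivedCategory

/-- `D^{≤ n}` is closed under coproducts. -/
lemma isLE_of_isColimit {ι : Type v} (X : ι → DerivedCategory A) (n : ℤ)
    (hX : ∀ i, (X i).IsLE n) {P : DerivedCategory A} (inj : ∀ i, X i ⟶ P)
    (hc : IsColimit (Cofan.mk P inj)) : P.IsLE n := by
  have h := fun i => exists_iso_Q_obj_of_isLE (X i) n
  choose K hK e using h
  have hQ := Groth.Agent.H33.BrownGA.isColimitQ K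
  let f : P ≅ Q.obj (∐ K) := cofanPtIso inj hc _ hQ (fun i => (e i).some)
  have hz : (∐ K).IsStrictlyLE n := by
    rw [CochainComplex.isStrictlyLE_iff]
    intro i hi
    exact isZero_of_isColimit_cofan _ (Groth.Agent.H33.HoCoprod.isColimitEval K i)
      (fun j => CochainComplex.isZero_of_isStrictlyLE (K j) n i hi)
  exact TStructure.t.isLE_of_iso f.symm n

variable [HasExt.{w'} A]

/-- **Compactness for finite cohomological dimension** (`FinFacAt` form). -/
theorem finFacAt_of_finite_cd {Z : A} (hZ : BaseHyp Z) (d : ℕ)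
    (hd : ∀ (F : A) (x : Ext.{w'} Z F (d + 1)), x = 0)
    {ι : Type v} (X : ι → DerivedCategory A) {P : DerivedCategory A} (inj : ∀ i, X i ⟶ P)
    (hc : IsColimit (Cofan.mk P inj)) : FinFacAt ((singleFunctor A 0).obj Z) inj hc := by
  refine finFacAt_of_trunc _ (-((d + 1 : ℕ) : ℤ)) (-(d : ℤ)) (by push_cast; ring) X inj hc ?_ ?_
  · apply finFacAt_of_forall_eq_zero
    intro φ
    refine eq_zero_of_isLE.{w'} Z d hd _ (-((d + 1 : ℕ) : ℤ)) (by omega) ?_ φ
    exact isLE_of_isColimit _ _ (fun i => inferInstance) _ (coproductIsCoproduct _)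
  · exact finFacAt_of_isGE hZ (-(d : ℤ)) _ (fun i => inferInstance) _ _

/-- **Compactness for finite cohomological dimension**. -/
theorem bijective_homSumToHomCoprod_of_finite_cd {Z : A} (h : ExtHyp.{w'} Z) (d : ℕ)
    (hd : ∀ (F : A) (x : Ext.{w'} Z F (d + 1)), x = 0) {ι : Type v}
    (X : ι → DerivedCategory A) [HasCoproduct X] :
    Function.Bijective (CohDer.homSumToHomCoprod ((singleFunctor A 0).obj Z) X) :=
  bijective_of_finFacAt _ X (finFacAt_of_finite_cd.{w'} (baseHyp_of_extHyp h) d hd X _ _)

end Groth.Agent.H45.BddCompact
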