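import Groth.Agent.H45.BddCompact.ModFreeOn

/-!
# `j_{U!} O_U` is compact for bounded below sums (module version)

(helper45)
-/

set_option autoImplicit false
universe u
open CategoryTheory CategoryTheory.Limits Opposite Abelian

namespace Groth.Agent.H45.BddCompact

open Groth.Agent.H45.ExtColim

variable {C : Type u} [SmallCategory C] [HasPullbacks C] {J : GrothendieckTopology C}
  (O : Sheaf J CommRingCat.{u})
  (B : Set C) (Cov : ∀ (U : C) (ι : Type u), (ι → Over U) → Prop)
  (h1 : ∀ (U : C) (ι : Type u) (Y : ι → Over U), Cov U ι Y → Finite ι ∧ U ∈ B ∧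
    Sieve.ofArrows (fun i => (Y i).left) (fun i => (Y i).hom) ∈ J U ∧
    ∀ (p : ℕ) (a : Fin (p + 1) → ι), (∏ᶜ fun k => Y (a k)).left ∈ B)
  (h2 : ∀ U ∈ B, ∀ T ∈ J U, ∃ (ι : Type u) (Y : ι → Over U), Cov U ι Y ∧ ∀ i, T.arrows (Y i).hom)

include h1 h2 in
/-- filtered colimits of injective modules are acyclic for `j_{U!} O_U`, `U ∈ B` -/
theorem ext_freeOn_colimit_eq_zero [HasExt.{u} (ModSite.Mod O)] (U : C) (hU : U ∈ B)
    {I : Type u} [SmallCategory I] [IsFiltered I] (G : I ⥤ ModSite.Mod O) [HasColimit G]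
    (hG : ∀ i, Injective (G.obj i)) (n : ℕ)
    (x : Ext (ModSite.freeOn O U) (colimit G) (n + 1)) : x = 0 := by
  let T := SheafOfModules.toSheaf.{u} (ModSite.ringSh O)
  let c : Cocone (G ⋙ T) := T.mapCocone (colimit.cocone G)
  have hc : IsColimit c := isColimitOfPreserves T (colimit.isColimit G)
  have hac : ∀ (i : I) (V : C) (q : ℕ), Subsingleton (CohSite.HU (T.obj (G.obj i)) (q + 1) V) :=
    fun i V q => Groth.Agent.H31.PushHU.acyclic_of_totallyAcyclic _
      (Groth.Agent.H31.ModAcyc.totallyAcyclic_of_injective (ModSite.ringSh O) (G.obj i))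
      (yoneda.obj V) q
  have h3 : ∀ (V : C) (ι : Type u) (Y : ι → Over V), Cov V ι Y →
      ∀ q : ℕ, IsZero (CohCx.cechH c.pt.obj Y (q + 1)) := by
    intro V ι Y hCov q
    obtain ⟨hfin, -, hcov, hB⟩ := h1 V ι Y hCov
    refine isZero_cechH_colimit Y c
      (fun n a => secColim_of_isColimit (G ⋙ T) hc (finCov₂_of_mem B Cov h1 h2 (hB n a))) q
      (fun i => ?_)
    obtain ⟨e⟩ := Groth.Agent.S0941.result J (T.obj (G.obj i)) Y hcov
      (fun p a q' => hac i _ q') (q + 1)
    have hs : Subsingleton (CohCx.cechH (T.obj (G.obj i)).obj Y (q + 1)) :=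
      e.toEquiv.subsingleton_congr.2 (hac i V q)
    exact @AddCommGrpCat.isZero_of_subsingleton (CohCx.cechH (T.obj (G.obj i)).obj Y (q + 1)) hs
  have hsub : Subsingleton (CohSite.HU c.pt (n + 1) U) :=
    Groth.Agent.S0861.result J B Cov
      (fun V ι Y hCov => ⟨(h1 V ι Y hCov).2.1, (h1 V ι Y hCov).2.2.1, (h1 V ι Y hCov).2.2.2⟩)
      h2 c.pt h3 U hU n
  obtain ⟨e⟩ := nonempty_ext_freeOn_addEquiv O U (colimit G) (n + 1)
  apply e.injective
  exact @Subsingleton.elim _ hsub _ _

include h1 h2 in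
/-- `Ext^p_O(j_{U!} O_U, -)` commutes with filtered colimits (elementwise form). -/
theorem extColim_freeOn (U : C) (hU : U ∈ B) (p : ℕ) :
    haveI := Groth.Agent.H33.SheafMod.isGrothendieckAbelian J (ModSite.ringSh O)
    ∀ {I : Type u} [SmallCategory I] [IsFiltered I] (F : I ⥤ ModSite.Mod O),
      ExtColim.{u} (ModSite.freeOn O U) p (colimit.cocone F) := by
  have := Groth.Agent.H33.SheafMod.isGrothendieckAbelian J (ModSite.ringSh O)
  intro I _ _ F
  refine extColim_colimit (ModSite.freeOn O U) ?_ ?_ p F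
  · intro I _ _ F
    exact homColim_freeOn O (secColim_of_isColimit _
      (isColimitOfPreserves (SheafOfModules.toSheaf.{u} (ModSite.ringSh O)) (colimit.isColimit F))
      (finCov₂_of_mem B Cov h1 h2 hU))
  · intro I _ _ G hG n x
    exact ext_freeOn_colimit_eq_zero O B Cov h1 h2 U hU G hG n x

include h1 h2 in
/-- classes in `Ext^p_O(j_{U!} O_U, ⊕ F_i)` are finite sums of classes from the summands -/
theorem extHyp_freeOn (U : C) (hU : U ∈ B) :
    haveI := Groth.Agent.H33.SheafMod.isGrothendieckAbelian J (ModSite.ringSh O)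
    ExtHyp.{u} (ModSite.freeOn O U) := by
  have := Groth.Agent.H33.SheafMod.isGrothendieckAbelian J (ModSite.ringSh O)
  exact extHyp_of_extColim (fun p {I} _ _ D => extColim_freeOn O B Cov h1 h2 U hU p D)

end Groth.Agent.H45.BddCompact
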