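import Groth.Agent.H45.BddCompact.ExtHyp
import Mathlib.Algebra.Homology.Embedding.HomEquiv
import Mathlib.Algebra.Homology.Embedding.StupidTrunc
import Mathlib.Algebra.Homology.DerivedCategory.ShortExact
import Mathlib.Algebra.Homology.DerivedCategory.Fractions

/-!
# Vanishing of maps from an object of finite cohomological dimension to `D^{≤ -d-1}`

Let `Z` be an object of an abelian category `A` with `Ext^{d+1}(Z, -) = 0`.  Then every morphism
`Z[0] ⟶ Y` in `D(A)` with `Y ∈ D^{≤ -d-1}` vanishes (`eq_zero_of_isLE`).  No left-completeness of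
`D(A)` is needed: a map `Z[0] ⟶ Y` is represented by a chain map to a complex `K ≅ Y`, which
factors (in `D(A)`) through the stupid truncation `σ_{≥ -d-1} K`, a shifted single object.

(helper45)
-/

set_option autoImplicit false

namespace Groth.Agent.H45.BddCompact

open CategoryTheory Limits DerivedCategory Abelian Pretriangulated

universe w' v u

section Vanish

variable {A : Type u} [Category.{v} A] [Abelian A]

/-- the projection to the quotient stupid truncation `K ⟶ σ_{≤ n} K` -/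
noncomputable def πLE (K : CochainComplex A ℤ) (n : ℤ) :
    K ⟶ K.stupidTrunc (ComplexShape.embeddingUpIntLE n) :=
  (ComplexShape.embeddingUpIntLE n).liftExtend (𝟙 _)
    (fun _ hj => (hj.false_of_isTruncLE).elim)

lemma isIso_πLE_f (K : CochainComplex A ℤ) (n i : ℤ) (hi : i ≤ n) : IsIso ((πLE K n).f i) := by
  obtain ⟨j, hj⟩ : ∃ j : ℕ, (ComplexShape.embeddingUpIntLE n).f j = i :=
    ⟨(n - i).toNat, by
      change n - ((n - i).toNat : ℤ) = i
      omega⟩
  exact ((ComplexShape.embeddingUpIntLE n).isIso_liftExtend_f_iff _ _ hj).2 (by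
    dsimp; infer_instance)

lemma isZero_stupidTruncLE_X (K : CochainComplex A ℤ) (n i : ℤ) (hi : n < i) :
    IsZero ((K.stupidTrunc (ComplexShape.embeddingUpIntLE n)).X i) :=
  CochainComplex.isZero_of_isStrictlyLE _ n i hi

instance (K : CochainComplex A ℤ) (n : ℤ) : Epi (πLE K n) := by
  apply HomologicalComplex.epi_of_epi_f
  intro i
  by_cases hi : i ≤ n
  · have := isIso_πLE_f K n i hi
    infer_instance
  · exact ⟨fun g h _ => (isZero_stupidTruncLE_X K n i (by omega)).eq_of_src g h⟩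

/-- the sub stupid truncation `σ_{> n} K`, as the kernel of `K ⟶ σ_{≤ n} K` -/
noncomputable abbrev subGT (K : CochainComplex A ℤ) (n : ℤ) : CochainComplex A ℤ :=
  kernel (πLE K n)

/-- the short exact sequence `0 ⟶ σ_{> n} K ⟶ K ⟶ σ_{≤ n} K ⟶ 0` -/
noncomputable abbrev truncSES (K : CochainComplex A ℤ) (n : ℤ) :
    ShortComplex (CochainComplex A ℤ) :=
  ShortComplex.mk (kernel.ι (πLE K n)) (πLE K n) (kernel.condition _)

lemma truncSES_shortExact (K : CochainComplex A ℤ) (n : ℤ) : (truncSES K n).ShortExact where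
  exact := ShortComplex.exact_of_f_is_kernel _ (kernelIsKernel _)
  mono_f := by dsimp; infer_instance
  epi_g := by dsimp; infer_instance

lemma isStrictlyGE_subGT (K : CochainComplex A ℤ) (n n' : ℤ) (h : n + 1 = n') :
    (subGT K n).IsStrictlyGE n' := by
  rw [CochainComplex.isStrictlyGE_iff]
  intro i hi
  have := isIso_πLE_f K n i (by omega)
  have h0 : (kernel.ι (πLE K n)).f i ≫ (πLE K n).f i = 0 := by
    rw [← HomologicalComplex.comp_f, kernel.condition, HomologicalComplex.zero_f]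
  have h1 : (kernel.ι (πLE K n)).f i = 0 := by
    rw [← cancel_mono ((πLE K n).f i), h0, zero_comp]
  exact IsZero.of_mono_eq_zero _ h1

variable [HasDerivedCategory.{v} A]

lemma isLE_Q_subGT (K : CochainComplex A ℤ) (n n' : ℤ) (h : n + 1 = n')
    (hK : (Q.obj K).IsLE n') : (Q.obj (subGT K n)).IsLE n' := by
  have hT := triangleOfSES_distinguished (truncSES_shortExact K n)
  have hT' := inv_rot_of_distTriang _ hT
  refine TStructure.t.isLE₂ _ hT' n' ?_ ?_
  · have : (Q.obj (K.stupidTrunc (ComplexShape.embeddingUpIntLE n))).IsLE n := inferInstance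
    exact TStructure.t.isLE_shift (Q.obj (K.stupidTrunc (ComplexShape.embeddingUpIntLE n)))
      n (-1) n' (by omega)
  · exact hK

/-- **Vanishing**: if `Ext^{d+1}(Z, -) = 0`, every map `Z[0] ⟶ Y` with `Y ∈ D^{≤ -d-1}` is zero. -/
theorem eq_zero_of_isLE [HasExt.{w'} A] (Z : A) (d : ℕ)
    (hZ : ∀ (F : A) (x : Ext.{w'} Z F (d + 1)), x = 0)
    (Y : DerivedCategory A) (n : ℤ) (hn : n + (d + 1 : ℕ) = 0) (hY : Y.IsLE n)
    (φ : (singleFunctor A 0).obj Z ⟶ Y) : φ = 0 := by
  -- represent `Y` by a complex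
  let K := Q.objPreimage Y
  let e : Q.obj K ≅ Y := Q.objObjPreimageIso Y
  let S : CochainComplex A ℤ := (CochainComplex.singleFunctor A 0).obj Z
  let a : Q.obj S ≅ (singleFunctor A 0).obj Z := ((singleFunctorIsoCompQ A 0).app Z).symm
  suffices hψ : a.hom ≫ φ ≫ e.inv = 0 by
    have h1 : φ ≫ e.inv = 0 := by
      rw [← cancel_epi a.hom, hψ, comp_zero]
    rw [← cancel_mono e.inv, h1, zero_comp]
  obtain ⟨K', g, s, hs, hfac⟩ := left_fac (a.hom ≫ φ ≫ e.inv)
  suffices hg : Q.map g = 0 by rw [hfac, hg, zero_comp]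
  have hK' : (Q.obj K').IsLE n :=
    TStructure.t.isLE_of_iso ((asIso (Q.map s)).symm ≪≫ e).symm n
  -- the truncation sequence
  have hT := triangleOfSES_distinguished (truncSES_shortExact K' (n - 1))
  have hgπ : g ≫ πLE K' (n - 1) = 0 := by
    ext i
    by_cases hi : i = 0
    · subst hi
      exact (isZero_stupidTruncLE_X K' (n - 1) 0 (by omega)).eq_of_tgt _ _
    · exact (HomologicalComplex.isZero_single_obj_X (ComplexShape.up ℤ) 0 Z i hi).eq_of_src _ _
  obtain ⟨γ, hγ⟩ : ∃ γ : Q.obj S ⟶ Q.obj (subGT K' (n - 1)),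
      Q.map g = γ ≫ Q.map (kernel.ι (πLE K' (n - 1))) :=
    Triangle.coyoneda_exact₂ _ hT (Q.map g) (by
      change Q.map g ≫ Q.map (πLE K' (n - 1)) = 0
      rw [← Q.map_comp, hgπ, Q.map_zero])
  suffices hγ0 : γ = 0 by rw [hγ, hγ0, zero_comp]
  -- the sub truncation is a shifted single object
  have h1 : (Q.obj (subGT K' (n - 1))).IsLE n := isLE_Q_subGT K' (n - 1) n (by omega) hK'
  have h2 : (subGT K' (n - 1)).IsStrictlyGE n := isStrictlyGE_subGT K' (n - 1) n (by omega)
  have h3 : (Q.obj (subGT K' (n - 1))).IsGE n := inferInstance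
  obtain ⟨W, ⟨eW⟩⟩ := exists_iso_singleFunctor_obj_of_isGE_of_isLE (Q.obj (subGT K' (n - 1))) n
  let eW' : Q.obj (subGT K' (n - 1)) ≅ ((singleFunctor A 0).obj W)⟦((d + 1 : ℕ) : ℤ)⟧ :=
    eW ≪≫ (((singleFunctors A).shiftIso ((d + 1 : ℕ) : ℤ) n 0 (by omega)).app W).symm
  suffices hγ1 : a.inv ≫ γ ≫ eW'.hom = 0 by
    have h4 : γ ≫ eW'.hom = 0 := by rw [← cancel_epi a.inv, hγ1, comp_zero]
    rw [← cancel_mono eW'.hom, h4, zero_comp]
  have h5 := hZ W (Ext.homEquiv.symm (a.inv ≫ γ ≫ eW'.hom))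
  have h6 : a.inv ≫ γ ≫ eW'.hom = Ext.homAddEquiv (0 : Ext.{w'} Z W (d + 1)) := by
    rw [← h5]
    exact (Equiv.apply_symm_apply Ext.homEquiv _).symm
  rw [h6, map_zero]

end Vanish

end Groth.Agent.H45.BddCompact
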